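import Cfsg.Agent.H539.Lim.Defs

/-!
# Change of module, change of group, degree one (helper206, S5242, task 5201)

* `van_fix`, `van_of_surj`, `van_one_iff`, `van_one_of_orbit`
-/

set_option autoImplicit false
set_option linter.unusedSectionVars false

namespace Cfsg.Agent.H206.Lim

open MulAction Cfsg.Agent.H539.Lim

universe u v w

variable {G : Type u} [Group G] {Ω : Type v} [MulAction G Ω] {D : Type w} [AddCommGroup D]
  [DistribMulAction G D]

theorem dd_coe {B : AddSubgroup D} {k : ℕ} (c : (Fin k → Ω) → B) (x : Fin (k + 1) → Ω) :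
    ((dd c x : B) : D) = dd (fun y => (c y : D)) x := by
  unfold dd
  rw [AddSubgroup.val_finsetSum]
  refine Finset.sum_congr rfl fun i _ => ?_
  rw [AddSubgroup.coe_zsmul]

/-- **A6** passing to the fixed points of a normal subgroup in the kernel of the action on `Ω` -/
theorem van_fix (Y : Subgroup G) [Y.Normal] (hY : ∀ x : Ω, Y ≤ stabilizer G x) {V : Set (Subgroup G)} {n : ℕ}
    (h : Van G Ω ↥(DFix Y D) V n) : Van G Ω D V n := by
  -- values of cochains
  have hval : ∀ {k : ℕ} {c : (Fin k → Ω) → D}, IsCoch V c → ∀ x, c x ∈ DFix Y D := by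
    intro k c hc x u hu
    rw [← hc.smul u x]
    congr 1
    funext i
    exact hY (x i) hu
  have hcoch : ∀ {k : ℕ} {c : (Fin k → Ω) → D} (hc : IsCoch V c),
      IsCoch V (fun x => (⟨c x, hval hc x⟩ : DFix Y D)) := by
    intro k c hc
    exact ⟨fun g x => Subtype.ext (hc.smul g x), fun x hx => Subtype.ext (hc.supp x hx)⟩
  have hcoc : ∀ {k : ℕ} {c : (Fin k → Ω) → D} (hc : IsCoch V c) (_ : IsCoc (G := G) V c),
      IsCoc (G := G) V (fun x => (⟨c x, hval hc x⟩ : DFix Y D)) := by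
    intro k c hc hc' x hx
    apply Subtype.ext
    rw [dd_coe]
    exact hc' x hx
  cases n with
  | zero =>
    intro c hc hc' x
    exact congrArg Subtype.val (h _ (hcoch hc) (hcoc hc hc') x)
  | succ n =>
    intro c hc hc'
    obtain ⟨b, hb, hcb⟩ := h _ (hcoch hc) (hcoc hc hc')
    refine ⟨fun x => (b x : D), ⟨fun g x => congrArg Subtype.val (hb.smul g x), fun x hx =>
      congrArg Subtype.val (hb.supp x hx)⟩, fun x hx => ?_⟩
    rw [← dd_coe]
    exact congrArg Subtype.val (hcb x hx)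

/-- **A7** change of group along a surjection -/
theorem van_of_surj {H : Type*} [Group H] [MulAction H Ω] [DistribMulAction H D] (φ : G →* H)
    (hφ : Function.Surjective φ) (hΩ : ∀ (g : G) (x : Ω), g • x = φ g • x) (hD : ∀ (g : G) (d : D), g • d = φ g • d)
    {V : Set (Subgroup G)} {V' : Set (Subgroup H)}
    (hV : ∀ (k : ℕ) (x : Fin (k + 1) → Ω), st G x ∈ V ↔ st H x ∈ V') {n : ℕ} (h : Van H Ω D V' n) :
    Van G Ω D V n := by
  have hcoch : ∀ {k : ℕ} {c : (Fin (k + 1) → Ω) → D}, IsCoch V c → IsCoch V' c := by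
    intro k c hc
    refine ⟨fun g x => ?_, fun x hx => hc.supp x (fun h1 => hx ((hV k x).1 h1))⟩
    obtain ⟨g, rfl⟩ := hφ g
    rw [← hD, ← hc.smul]
    congr 1
    funext i
    exact (hΩ g (x i)).symm
  have hcoch' : ∀ {k : ℕ} {c : (Fin (k + 1) → Ω) → D}, IsCoch V' c → IsCoch V c := by
    intro k c hc
    refine ⟨fun g x => ?_, fun x hx => hc.supp x (fun h1 => hx ((hV k x).2 h1))⟩
    rw [hD, ← hc.smul]
    congr 1
    funext i
    exact hΩ g (x i)
  have hcoc : ∀ {k : ℕ} {c : (Fin (k + 1) → Ω) → D}, IsCoc (G := G) V c → IsCoc (G := H) V' c := by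
    intro k c hc x hx
    exact hc x ((hV _ x).2 hx)
  cases n with
  | zero => exact fun c hc hc' => h c (hcoch hc) (hcoc hc')
  | succ n =>
    intro c hc hc'
    obtain ⟨b, hb, hcb⟩ := h c (hcoch hc) (hcoc hc')
    exact ⟨b, hcoch' hb, fun x hx => hcb x ((hV _ x).1 hx)⟩

theorem st_smul {k : ℕ} (g : G) (x : Fin k → Ω) : st G (g • x) = cj g (st G x) :=
  stabilizer_smul_eq_stabilizer_map_conj g x

theorem mem_smul_iff {V : Set (Subgroup G)} (hVi : IsInv V) {k : ℕ} (g : G) (x : Fin k → Ω) :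
    st G (g • x) ∈ V ↔ st G x ∈ V := by
  constructor
  · intro h
    have h1 := hVi g⁻¹ _ h
    rwa [← st_smul, inv_smul_smul] at h1
  · intro h
    rw [st_smul]
    exact hVi g _ h

theorem mem_st_iff {k : ℕ} {x : Fin k → Ω} {g : G} : g ∈ st G x ↔ ∀ i, g • x i = x i := by
  rw [mem_stabilizer_iff]
  exact funext_iff

theorem st_two (x : Fin 2 → Ω) : st G x = stabilizer G (x 0) ⊓ stabilizer G (x 1) := by
  ext g
  rw [mem_st_iff, Subgroup.mem_inf, mem_stabilizer_iff, mem_stabilizer_iff, Fin.forall_fin_two]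

theorem st_three (x : Fin 3 → Ω) : st G x = stabilizer G (x 0) ⊓ stabilizer G (x 1) ⊓ stabilizer G (x 2) := by
  ext g
  rw [mem_st_iff, Subgroup.mem_inf, Subgroup.mem_inf, mem_stabilizer_iff, mem_stabilizer_iff, mem_stabilizer_iff]
  constructor
  · exact fun h => ⟨⟨h 0, h 1⟩, h 2⟩
  · rintro ⟨⟨h0, h1⟩, h2⟩ i
    fin_cases i
    · exact h0
    · exact h1
    · exact h2

theorem dd_one (b : (Fin 1 → Ω) → D) (x : Fin 2 → Ω) : dd b x = b (fun _ => x 1) - b (fun _ => x 0) := by
  have e0 : (fun j : Fin 1 => x ((0 : Fin 2).succAbove j)) = fun _ => x 1 := by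
    funext j
    fin_cases j
    rfl
  have e1 : (fun j : Fin 1 => x ((1 : Fin 2).succAbove j)) = fun _ => x 0 := by
    funext j
    fin_cases j
    rfl
  unfold dd
  rw [Fin.sum_univ_two, e0, e1, Fin.val_zero, Fin.val_one, pow_zero, pow_one, one_smul, neg_one_zsmul,
    ← sub_eq_add_neg]

theorem dd_two (c : (Fin 2 → Ω) → D) (x : Fin 3 → Ω) :
    dd c x = c ![x 1, x 2] - c ![x 0, x 2] + c ![x 0, x 1] := by
  have e0 : (fun j : Fin 2 => x ((0 : Fin 3).succAbove j)) = ![x 1, x 2] := by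
    funext j
    fin_cases j
    · rfl
    · rfl
  have e1 : (fun j : Fin 2 => x ((1 : Fin 3).succAbove j)) = ![x 0, x 2] := by
    funext j
    fin_cases j
    · rfl
    · rfl
  have e2 : (fun j : Fin 2 => x ((2 : Fin 3).succAbove j)) = ![x 0, x 1] := by
    funext j
    fin_cases j
    · rfl
    · rfl
  unfold dd
  rw [Fin.sum_univ_three, e0, e1, e2, Fin.val_zero, Fin.val_one, Fin.val_two, pow_zero, pow_one, neg_one_sq,
    one_smul, one_smul, neg_one_zsmul, ← sub_eq_add_neg]

/-- **A9** translation of `Van ... 1` into functions of two points -/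
theorem van_one_iff {V : Set (Subgroup G)} (hV : IsUpperSet V) (hVi : IsInv V) :
    Van G Ω D V 1 ↔ ∀ c : Ω → Ω → D, (∀ (g : G) x y, c (g • x) (g • y) = g • c x y) →
      (∀ x y z, stabilizer G x ⊓ stabilizer G y ⊓ stabilizer G z ∈ V → c x z = c x y + c y z) →
      ∃ v : Ω → D, (∀ (g : G) y, v (g • y) = g • v y) ∧
        ∀ x y, stabilizer G x ⊓ stabilizer G y ∈ V → c x y = v y - v x := by
  classical
  constructor
  · intro h c hc hcoc
    let c' : (Fin 2 → Ω) → D := fun x => if st G x ∈ V then c (x 0) (x 1) else 0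
    have hc'1 : ∀ x, st G x ∈ V → c' x = c (x 0) (x 1) := fun x hx => if_pos hx
    have h1 : IsCoch V c' := by
      refine ⟨fun g x => ?_, fun x hx => if_neg hx⟩
      by_cases hx : st G x ∈ V
      · rw [hc'1 x hx, hc'1 _ ((mem_smul_iff hVi g x).2 hx), ← hc]
        rfl
      · have h2 : c' x = 0 := if_neg hx
        have h3 : c' (g • x) = 0 := if_neg (fun h4 => hx ((mem_smul_iff hVi g x).1 h4))
        rw [h2, h3, smul_zero]
    have h2 : IsCoc (G := G) V c' := by
      intro x hx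
      have hx' := hx
      rw [st_three] at hx'
      rw [dd_two, hc'1, hc'1, hc'1]
      · change c (x 1) (x 2) - c (x 0) (x 2) + c (x 0) (x 1) = 0
        rw [hcoc _ _ _ hx']
        abel
      · refine hV ?_ hx'
        rw [st_two]
        exact inf_le_left
      · refine hV ?_ hx'
        rw [st_two]
        exact le_inf (inf_le_left.trans inf_le_left) inf_le_right
      · refine hV ?_ hx'
        rw [st_two]
        exact le_inf (inf_le_left.trans inf_le_right) inf_le_right
    obtain ⟨b, hb, hcb⟩ := h c' h1 h2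
    refine ⟨fun y => b (fun _ => y), fun g y => hb.smul g _, fun x y hxy => ?_⟩
    have h3 : st G ![x, y] ∈ V := by rw [st_two]; exact hxy
    have h4 := hcb _ h3
    rw [hc'1 _ h3, dd_one] at h4
    exact h4
  · intro h c hc hcoc
    obtain ⟨v, hv, hcv⟩ := h (fun x y => c ![x, y]) (fun g x y => by
        rw [← hc.smul]
        congr 1
        funext i
        fin_cases i
        · rfl
        · rfl) (fun x y z hxyz => by
        have h1 : st G ![x, y, z] ∈ V := by rw [st_three]; exact hxyz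
        have h2 := hcoc _ h1
        rw [dd_two] at h2
        change c ![y, z] - c ![x, z] + c ![x, y] = 0 at h2
        change c ![x, z] = c ![x, y] + c ![y, z]
        rw [sub_add_eq_add_sub, sub_eq_zero, add_comm] at h2
        exact h2.symm)
    let b : (Fin 1 → Ω) → D := fun x => if st G x ∈ V then v (x 0) else 0
    have hb1 : ∀ x, st G x ∈ V → b x = v (x 0) := fun x hx => if_pos hx
    refine ⟨b, ⟨fun g x => ?_, fun x hx => if_neg hx⟩, fun x hx => ?_⟩
    · by_cases hx : st G x ∈ V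
      · rw [hb1 x hx, hb1 _ ((mem_smul_iff hVi g x).2 hx), ← hv]
        rfl
      · have h2 : b x = 0 := if_neg hx
        have h3 : b (g • x) = 0 := if_neg (fun h4 => hx ((mem_smul_iff hVi g x).1 h4))
        rw [h2, h3, smul_zero]
    · have hx' := hx
      rw [st_two] at hx'
      have h1 := hcv _ _ hx'
      have h2 : x = ![x 0, x 1] := by
        funext i
        fin_cases i
        · rfl
        · rfl
      rw [dd_one, hb1, hb1]
      · rw [← h1]
        conv_lhs => rw [h2]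
      · refine hV ?_ hx
        intro g hg
        rw [mem_st_iff] at hg ⊢
        exact fun _ => hg 0
      · refine hV ?_ hx
        intro g hg
        rw [mem_st_iff] at hg ⊢
        exact fun _ => hg 1

/-- an equivariant map onto the orbit `Ω₀` -/
theorem exists_equiv_map {p : ℕ} (hΩ : PSet p G Ω) (Ω₀ : Finset Ω) (h0 : ∀ (g : G), ∀ y ∈ Ω₀, g • y ∈ Ω₀)
    (hfix : ∀ P : Subgroup G, IsPGroup p P → ∃ y ∈ Ω₀, P ≤ stabilizer G y) :
    ∃ π : Ω → Ω, (∀ (g : G) x, π (g • x) = g • π x) ∧ (∀ x, π x ∈ Ω₀) ∧ ∀ x, stabilizer G x ≤ stabilizer G (π x) := by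
  classical
  have h1 : ∀ q : orbitRel.Quotient G Ω, ∃ y ∈ Ω₀, stabilizer G q.out ≤ stabilizer G y :=
    fun q => hfix _ (hΩ.pgroup _)
  choose y₀ hy₀ hst using h1
  have h2 : ∀ x : Ω, ∃ g : G, g • (Quotient.out (Quotient.mk (orbitRel G Ω) x) : Ω) = x := by
    intro x
    have h3 : (orbitRel G Ω) x (Quotient.out (Quotient.mk (orbitRel G Ω) x)) :=
      (orbitRel G Ω).symm' (Quotient.mk_out (s := orbitRel G Ω) x)
    exact h3
  choose γ hγ using h2
  have hπ : ∀ (g : G) (x : Ω), γ (g • x) • y₀ (Quotient.mk (orbitRel G Ω) (g • x)) =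
      g • γ x • y₀ (Quotient.mk (orbitRel G Ω) x) := by
    intro g x
    have h3 : (Quotient.mk (orbitRel G Ω) (g • x) : orbitRel.Quotient G Ω) = Quotient.mk (orbitRel G Ω) x :=
      Quotient.sound (s := orbitRel G Ω) ⟨g, rfl⟩
    have h4 := hγ (g • x)
    rw [h3] at h4 ⊢
    have h5 : (g * γ x)⁻¹ * γ (g • x) ∈ stabilizer G (Quotient.out (Quotient.mk (orbitRel G Ω) x) : Ω) := by
      rw [mem_stabilizer_iff, mul_smul, h4, inv_smul_eq_iff, mul_smul, hγ x]
    have h6 := hst _ h5
    rw [mem_stabilizer_iff, mul_smul, inv_smul_eq_iff, mul_smul] at h6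
    exact h6
  refine ⟨fun x => γ x • y₀ (Quotient.mk (orbitRel G Ω) x), hπ, fun x => h0 _ _ (hy₀ _), fun x g hg => ?_⟩
  rw [mem_stabilizer_iff] at hg ⊢
  have h3 := hπ g x
  rw [← h3, hg]

set_option linter.unusedVariables false in
/-- **A9** independence of `Ω` in degree one: it is enough to work with the Sylow orbit.  `V` upper set. -/
theorem van_one_of_orbit {p : ℕ} [Fact p.Prime] [Finite G] [Finite Ω] (hΩ : PSet p G Ω) {V : Set (Subgroup G)}
    (hV : IsUpperSet V) (hVi : IsInv V) (Ω₀ : Finset Ω) (h0 : ∀ (g : G), ∀ y ∈ Ω₀, g • y ∈ Ω₀)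
    (hfix : ∀ P : Subgroup G, IsPGroup p P → ∃ y ∈ Ω₀, P ≤ stabilizer G y)
    (c : Ω → Ω → D) (hc : ∀ (g : G) x y, c (g • x) (g • y) = g • c x y)
    (hcoc : ∀ x y z, stabilizer G x ⊓ stabilizer G y ⊓ stabilizer G z ∈ V → c x z = c x y + c y z)
    (v : Ω → D) (hv : ∀ (g : G), ∀ y ∈ Ω₀, v (g • y) = g • v y)
    (hcv : ∀ x ∈ Ω₀, ∀ y ∈ Ω₀, stabilizer G x ⊓ stabilizer G y ∈ V → c x y = v y - v x) :
    ∃ v' : Ω → D, (∀ (g : G) y, v' (g • y) = g • v' y) ∧
      ∀ x y, stabilizer G x ⊓ stabilizer G y ∈ V → c x y = v' y - v' x := by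
  obtain ⟨π, hπ, hπ0, hst⟩ := exists_equiv_map hΩ Ω₀ h0 hfix
  refine ⟨fun x => v (π x) - c x (π x), fun g x => ?_, fun x y hxy => ?_⟩
  · change v (π (g • x)) - c (g • x) (π (g • x)) = g • (v (π x) - c x (π x))
    rw [hπ, hv g _ (hπ0 x), hc, smul_sub]
  · have h1 := hcoc x y (π y) (hV (le_inf le_rfl (inf_le_right.trans (hst y))) hxy)
    have h2 := hcoc x (π x) (π y) (hV (le_inf (le_inf inf_le_left (inf_le_left.trans (hst x)))
      (inf_le_right.trans (hst y))) hxy)
    have h3 := hcv _ (hπ0 x) _ (hπ0 y) (hV (le_inf (inf_le_left.trans (hst x)) (inf_le_right.trans (hst y))) hxy)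
    rw [h1, h3] at h2
    have h4 : c x y = c x (π x) + (v (π y) - v (π x)) - c y (π y) := eq_sub_of_add_eq h2
    rw [h4]
    change _ = (v (π y) - c y (π y)) - (v (π x) - c x (π x))
    abel

end Cfsg.Agent.H206.Lim

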